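import Groth.Agent.Lib.KodV16.Main
import Groth.Agent.Lib.SmoothReg17.Basic
import Groth.Agent.Lib.TensorMod.Invertible
import Groth.Prelude.Def_ClSub2

/-!
# Descent along Frobenius powers
-/

set_option autoImplicit false
set_option linter.style.haveILetI false
set_option backward.isDefEq.respectTransparency false
set_option backward.isDefEq.respectTransparency.types false

universe u

open CategoryTheory CategoryTheory.Limits AlgebraicGeometry TopologicalSpace

noncomputable section

namespace Groth.Agent.KodV16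

open Groth.Agent

variable {X : Scheme.{u}}

/-- A tensor inverse of an invertible module is invertible. -/
theorem isInvertible_inv {L L' : X.Modules} (hL : PicF.IsInvertible L) (h : ClSub.IsInverseOf L' L) :
    PicF.IsInvertible L' := by
  obtain ⟨e⟩ := h
  obtain ⟨D, hD, ⟨eD⟩⟩ := M2.exists_inverse hL
  exact M2.isInvertible_of_iso (M2.inverseUnique eD (M2.tensorComm L L' ≪≫ e)) hD

/-- Isomorphic modules have isomorphic cohomology. -/
theorem subsingleton_HH_of_iso {M N : X.Modules} (e : M ≅ N) (n : ℕ) (h : Subsingleton (Coh.HH X M n)) :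
    Subsingleton (Coh.HH X N n) := by
  let e' := ((Sheaf.functorH (Opens.grothendieckTopology X) n).mapIso
    ((SheafOfModules.toSheaf X.ringCatSheaf).mapIso e)).addCommGroupIsoToAddEquiv
  exact @Equiv.subsingleton _ _ e'.symm.toEquiv h

variable (k : Type u) [Field k] [IsAlgClosed k] (p : ℕ) [Fact p.Prime] [CharP k p]
  (f : X ⟶ Spec (CommRingCat.of k)) [IsIntegral X] [QuasiSeparated f]

/-- `H¹(L) = 0` once some `H¹(L^{p^n})` vanishes and no `L^{p^n} ⊗ Ω` has sections. -/
theorem subsingleton_H1_descent [Smooth f] {L : X.Modules} (hL : PicF.IsInvertible L)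
    (h0 : ∀ n : ℕ, 1 ≤ n →
      Subsingleton (Coh.HH X (CohB1.tensorMod (CohB1.tensorPow L (p ^ n)) (Omega.sheaf f)) 0))
    (h1 : ∃ n₀ : ℕ, Subsingleton (Coh.HH X (CohB1.tensorPow L (p ^ n₀)) 1)) :
    Subsingleton (Coh.HH X L 1) := by
  have hXn : Pi1.IsNormalScheme X := fun x =>
    ⟨SmoothReg17.isDomain_stalk f x, SmoothReg17.isIntegrallyClosed_stalk f x⟩
  obtain ⟨n₀, h1⟩ := h1
  induction n₀ with
  | zero => exact subsingleton_HH_of_iso (M2.tensorLUnit L) 1 h1
  | succ n ih =>
    refine ih (subsingleton_H1 k p f hXn (M2.isInvertible_tensorPow hL _)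
      (subsingleton_HH_of_iso (M2.tensorIso ((M2.tensorPowPow L (p ^ n) p).symm) (Iso.refl _)) 0
        (h0 (n + 1) (Nat.le_add_left 1 n)))
      (subsingleton_HH_of_iso (M2.tensorPowPow L (p ^ n) p).symm 1 h1))

end Groth.Agent.KodV16
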