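import Groth.Agent.Lib.FrobSplit12.Semi
import Groth.Agent.Lib.FrobSplit12.Main
import Groth.Agent.Lib.Omega26.Basic
import Groth.Agent.Lib.TensorMod.Hom
import Groth.Agent.Lib.TensorMod.InvCrit
import Groth.Agent.Lib.MTRigid29.ExtendGlue
import Groth.Agent.S2148
import Groth.Prelude.Def_Omega4
import Groth.Prelude.Def_Pi1

/-!
# Kodaira-type vanishing of `H¹` in positive characteristic

The `p`-th power `L → L^p` has cokernel inside `L^p ⊗ Ω` through `c • e^p ↦ e^p ⊗ dc`, because on a
normal variety over a perfect field the kernel of `d` consists of the `p`-th powers.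
-/

set_option autoImplicit false
set_option linter.style.haveILetI false
set_option backward.isDefEq.respectTransparency false
set_option backward.isDefEq.respectTransparency.types false
set_option maxHeartbeats 800000

universe u

open CategoryTheory CategoryTheory.Limits AlgebraicGeometry TopologicalSpace Opposite CategoryTheory.Abelian

noncomputable section

namespace Groth.Agent.KodV16

open Groth.Agent Groth.Agent.M1
open Groth.Agent.M2 (IsGenerator res tsec)
open scoped TensorProduct

variable {X : Scheme.{u}}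

/-- An additive map out of an invertible module, given on the coordinates. -/
structure Data (P Q : X.Modules) where
  ι : Type u
  U : ι → X.Opens
  cov : ⨆ i, U i = ⊤
  p : ∀ i, Γ(P, U i)
  gen : ∀ i, IsGenerator (p i)
  g : ∀ (i : ι) (W : X.Opens), W ≤ U i → (Γ(X, W) →+ Γ(Q, W))
  g_res : ∀ (i : ι) {W W' : X.Opens} (hi : W ≤ U i) (h : W' ≤ W) (a : Γ(X, W)),
    g i W' (h.trans hi) (ores h a) = mres Q h (g i W hi a)
  compat : ∀ (i j : ι) (W : X.Opens) (hi : W ≤ U i) (hj : W ≤ U j) (a b : Γ(X, W)),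
    a • mres P hi (p i) = b • mres P hj (p j) → g i W hi a = g j W hj b

variable {P Q : X.Modules} (D : Data P Q)

/-- `ρ` corresponds to `σ`. -/
def Data.Corr (V : X.Opens) (σ : Γ(P, V)) (ρ : Γ(Q, V)) : Prop :=
  ∀ (i : D.ι) (W : X.Opens) (hW : W ≤ V) (hi : W ≤ D.U i) (c : Γ(X, W)),
    mres P hW σ = c • mres P hi (D.p i) → mres Q hW ρ = D.g i W hi c

theorem Data.cov' (V : X.Opens) : V ≤ ⨆ i, V ⊓ D.U i := by
  rw [← inf_iSup_eq, D.cov, inf_top_eq]

theorem Data.exists_coeff (i : D.ι) {W : X.Opens} (hi : W ≤ D.U i) (σ : Γ(P, W)) :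
    ∃ c : Γ(X, W), σ = c • mres P hi (D.p i) := by
  obtain ⟨c, hc⟩ := (D.gen i W hi).2 σ
  exact ⟨c, hc.symm⟩

theorem Data.corr_unique {V : X.Opens} {σ : Γ(P, V)} {ρ ρ' : Γ(Q, V)} (h : D.Corr V σ ρ) (h' : D.Corr V σ ρ') :
    ρ = ρ' := by
  refine modules_eq_of_locally_eq Q V (fun i => V ⊓ D.U i) (fun i => inf_le_left) (D.cov' V) _ _ fun i => ?_
  obtain ⟨c, hc⟩ := D.exists_coeff i inf_le_right (mres P (inf_le_left : V ⊓ D.U i ≤ V) σ)
  rw [h i _ inf_le_left inf_le_right c hc, h' i _ inf_le_left inf_le_right c hc]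

theorem Data.exists_corr (V : X.Opens) (σ : Γ(P, V)) : ∃ ρ, D.Corr V σ ρ := by
  have h := fun i => D.exists_coeff i (inf_le_right : V ⊓ D.U i ≤ D.U i)
    (mres P (inf_le_left : V ⊓ D.U i ≤ V) σ)
  choose c hc using h
  obtain ⟨ρ, hρ, -⟩ := TopCat.Sheaf.existsUnique_gluing' ⟨_, Q.isSheaf⟩ (fun i => V ⊓ D.U i) V
    (fun i => homOfLE inf_le_left) (D.cov' V)
    (fun i => D.g i _ inf_le_right (c i)) fun i j => by
      show mres Q (inf_le_left : (V ⊓ D.U i) ⊓ (V ⊓ D.U j) ≤ V ⊓ D.U i) (D.g i _ inf_le_right (c i)) =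
        mres Q (inf_le_right : (V ⊓ D.U i) ⊓ (V ⊓ D.U j) ≤ V ⊓ D.U j) (D.g j _ inf_le_right (c j))
      rw [← D.g_res, ← D.g_res]
      refine D.compat i j _ _ _ _ _ ?_
      have ei := congrArg (mres P (inf_le_left : (V ⊓ D.U i) ⊓ (V ⊓ D.U j) ≤ V ⊓ D.U i)) (hc i)
      have ej := congrArg (mres P (inf_le_right : (V ⊓ D.U i) ⊓ (V ⊓ D.U j) ≤ V ⊓ D.U j)) (hc j)
      rw [mres_smul, mres_mres, mres_mres] at ei ej
      exact ei.symm.trans ej
  refine ⟨ρ, fun i W hW hi a ha => ?_⟩
  have hρ' : mres Q (inf_le_left : V ⊓ D.U i ≤ V) ρ = D.g i _ inf_le_right (c i) := hρ i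
  have hW' : W ≤ V ⊓ D.U i := le_inf hW hi
  rw [← mres_mres Q (inf_le_left : V ⊓ D.U i ≤ V) hW', hρ', ← D.g_res]
  congr 1
  refine (D.gen i W hi).1 ?_
  show ores hW' (c i) • mres P hi (D.p i) = a • mres P hi (D.p i)
  rw [← ha, ← mres_mres P (inf_le_left : V ⊓ D.U i ≤ V) hW', hc i, mres_smul, mres_mres]

/-- The glued map on sections. -/
def Data.fn (V : X.Opens) (σ : Γ(P, V)) : Γ(Q, V) := (D.exists_corr V σ).choose

theorem Data.corr_fn (V : X.Opens) (σ : Γ(P, V)) : D.Corr V σ (D.fn V σ) := (D.exists_corr V σ).choose_spec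

theorem Data.fn_add (V : X.Opens) (σ σ' : Γ(P, V)) : D.fn V (σ + σ') = D.fn V σ + D.fn V σ' := by
  refine D.corr_unique (D.corr_fn V _) fun i W hW hi a ha => ?_
  obtain ⟨b, hb⟩ := D.exists_coeff i hi (mres P hW σ)
  obtain ⟨b', hb'⟩ := D.exists_coeff i hi (mres P hW σ')
  have he : a = b + b' := (D.gen i W hi).1 (by
    show a • mres P hi (D.p i) = (b + b') • mres P hi (D.p i)
    rw [add_smul, ← ha, ← hb, ← hb', map_add])
  rw [map_add, D.corr_fn V σ i W hW hi b hb, D.corr_fn V σ' i W hW hi b' hb', he, map_add]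

theorem Data.fn_mres {V V' : X.Opens} (h : V' ≤ V) (σ : Γ(P, V)) :
    D.fn V' (mres P h σ) = mres Q h (D.fn V σ) := by
  refine D.corr_unique (D.corr_fn V' _) fun i W hW hi a ha => ?_
  rw [mres_mres] at ha ⊢
  exact D.corr_fn V σ i W _ hi a ha

/-- The map of abelian sheaves. -/
def Data.hom : Coh.toAb P ⟶ Coh.toAb Q :=
  ⟨{ app := fun V => AddCommGrpCat.ofHom (AddMonoidHom.mk' (D.fn V.unop) (D.fn_add V.unop))
     naturality := fun V V' i => by
       ext σ
       exact D.fn_mres (leOfHom i.unop) σ }⟩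

/-- A pure tensor with a generator vanishes only if the other factor does. -/
theorem tsec_eq_zero {M N : X.Modules} {U : X.Opens} {e : Γ(M, U)} (he : IsGenerator e) (t : Γ(N, U))
    (h : tsec M N e t = 0) : t = 0 := by
  refine TopCat.Presheaf.section_ext ⟨N.presheaf, N.isSheaf⟩ U t 0 fun x hx => ?_
  rw [map_zero]
  have h1 := M2.stalkEquiv_tsec M N x hx e t
  rw [h, map_zero, map_zero] at h1
  let ℓ := (LinearEquiv.ofBijective
    (LinearMap.toSpanSingleton (X.presheaf.stalk x) (M.presheaf.stalk x) (M.presheaf.germ U x hx e))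
    (Amp.gen_of_isGenerator he hx)).symm
  have h2 := congrArg (fun z => TensorProduct.lid (X.presheaf.stalk x) (N.presheaf.stalk x)
    (LinearMap.rTensor (N.presheaf.stalk x) ℓ.toLinearMap z)) h1
  simp only [map_zero, LinearMap.rTensor_tmul, TensorProduct.lid_tmul, LinearEquiv.coe_coe] at h2
  rw [show ℓ (M.presheaf.germ U x hx e) = 1 from by
    rw [LinearEquiv.symm_apply_eq]; exact (one_smul (X.presheaf.stalk x) _).symm, one_smul] at h2
  exact h2.symm

/-- Vanishing of `d` over a base whose image lies in that of `k`. -/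
theorem D_eq_zero_of_surjective {R k A K : Type u} [CommRing R] [CommRing k] [CommRing A] [CommRing K]
    [Algebra R A] [Algebra k A] [Algebra k K] [Algebra A K] [IsScalarTower k A K]
    (e : ∀ r : R, ∃ c : k, algebraMap k A c = algebraMap R A r) (a : A)
    (h : KaehlerDifferential.D R A a = 0) : KaehlerDifferential.D k K (algebraMap A K a) = 0 := by
  let δ : Derivation R A (Ω[A⁄k]) := Derivation.mk'
    { toFun := KaehlerDifferential.D k A
      map_add' := map_add _
      map_smul' := fun r b => by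
        obtain ⟨c, hc⟩ := e r
        rw [RingHom.id_apply, ← IsScalarTower.algebraMap_smul A r (KaehlerDifferential.D k A b)]
        rw [Algebra.smul_def, ← hc, Derivation.leibniz, Derivation.map_algebraMap, smul_zero, add_zero] }
    fun b c => (KaehlerDifferential.D k A).leibniz b c
  have h1 : KaehlerDifferential.D k A a = 0 := by
    have h2 := δ.liftKaehlerDifferential_comp_D a
    rw [h, map_zero] at h2
    exact h2.symm
  rw [← KaehlerDifferential.map_D k k A K a, h1, map_zero]

variable (k : Type u) [Field k] [IsAlgClosed k] (p : ℕ) [Fact p.Prime] [CharP k p]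
  (f : X ⟶ Spec (CommRingCat.of k)) [IsIntegral X] [QuasiSeparated f]

/-- On a normal variety, functions killed by `d` are `p`-th powers. -/
theorem exists_pow (hXn : Pi1.IsNormalScheme X) {U : X.Opens} (hU : IsAffineOpen U)
    (a : Γ(X, U)) (h : (OmegaSh.dOmega f).app U a = 0) : ∃ b, b ^ p = a := by
  by_cases hne : Nonempty U
  swap
  · haveI : Subsingleton Γ(X, U) := by
      have : U = ⊥ := by
        rw [eq_bot_iff]; intro x hx; exact (hne ⟨⟨x, hx⟩⟩).elim
      rw [this]
      exact CommRingCat.subsingleton_of_isTerminal X.sheaf.isTerminalOfEmpty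
    exact ⟨0, Subsingleton.elim _ _⟩
  haveI : IsDomain Γ(X, U) := IsIntegral.component_integral U
  haveI : IsIntegrallyClosed Γ(X, U) := MTRigid29.Extend.isIntegrallyClosed_of_stalks hU fun x => (hXn x).2
  let V : (Spec (CommRingCat.of k)).Opens := ⊤
  have hle : U ≤ f ⁻¹ᵁ V := le_top
  let eR : k ≃+* Γ(Spec (CommRingCat.of k), V) :=
    (Scheme.ΓSpecIso (CommRingCat.of k)).symm.commRingCatIsoToRingEquiv
  letI algA : Algebra k Γ(X, U) := ((f.appLE V U hle).hom.comp eR.toRingHom).toAlgebra
  letI algV := (f.appLE V U hle).hom.toAlgebra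
  have hinj := (Omega26.sectEquiv f hU (isAffineOpen_top _) hle).injective
  have hD : KaehlerDifferential.D Γ(Spec (CommRingCat.of k), V) Γ(X, U) a = 0 := hinj (by
    rw [map_zero]
    exact (OmAff.toSect_d f V U hle a).trans h)
  have hK : KaehlerDifferential.D k (FractionRing Γ(X, U)) (algebraMap Γ(X, U) _ a) = 0 := by
    refine D_eq_zero_of_surjective (R := Γ(Spec (CommRingCat.of k), V)) (fun r => ?_) a hD
    exact ⟨eR.symm r, congrArg (f.appLE V U hle).hom (eR.apply_symm_apply r)⟩
  let K := FractionRing Γ(X, U)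
  haveI : PerfectRing k p := PerfectField.toPerfectRing p
  obtain ⟨b, hb⟩ := (S2148.result p (algebraMap Γ(X, U) K a)).1 hK
  have hb' : IsIntegral Γ(X, U) b := by
    refine IsIntegral.of_pow (Fact.out : p.Prime).pos ?_
    rw [hb]
    exact isIntegral_algebraMap
  obtain ⟨b', rfl⟩ := IsIntegrallyClosed.isIntegral_iff.1 hb'
  exact ⟨b', IsFractionRing.injective Γ(X, U) K (by rw [map_pow, hb])⟩

include k f in
theorem natCast_eq_zero : (p : Γ(X, ⊤)) = 0 := by
  letI : X.Over (Spec (CommRingCat.of k)) := ⟨f⟩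
  exact FrobSplit12.natCast_eq_zero p k (X := X)

theorem d_pow (W : X.Opens) (b : Γ(X, W)) : (OmegaSh.dOmega f).app W (b ^ p) = 0 := by
  have hp : (p : Γ(X, W)) = 0 := by
    rw [← map_natCast (X.presheaf.map (homOfLE (le_top : W ≤ ⊤)).op).hom p, natCast_eq_zero k p f, map_zero]
  have key : ∀ n : ℕ, (OmegaSh.dOmega f).app W (b ^ (n + 1)) =
      ((n + 1 : ℕ) : Γ(X, W)) • b ^ n • (OmegaSh.dOmega f).app W b := by
    intro n
    induction n with
    | zero => simp
    | succ n ih =>
      rw [pow_succ b (n + 1)]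
      refine ((OmegaSh.dOmega f).d_mul (X := op W) (b ^ (n + 1)) b).trans ?_
      change b ^ (n + 1) • (OmegaSh.dOmega f).app W b + b • (OmegaSh.dOmega f).app W (b ^ (n + 1)) = _
      rw [ih, smul_comm b, ← mul_smul b, ← pow_succ', Nat.cast_succ (n + 1), add_smul, one_smul, add_comm]
  obtain ⟨n, rfl⟩ := Nat.exists_eq_add_of_le' (Fact.out : p.Prime).pos
  rw [key n, hp, zero_smul]

variable (hXn : Pi1.IsNormalScheme X) {L : X.Modules} (hL : PicF.IsInvertible L)

include hXn hL in
/-- `H¹(L) → H¹(L^p)` is injective if `L^p ⊗ Ω` has no sections. -/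
theorem subsingleton_H1
    (h0 : Subsingleton (Sheaf.H (Coh.toAb (CohB1.tensorMod (CohB1.tensorPow L p) (Omega.sheaf f))) 0))
    (h1 : Subsingleton (Sheaf.H (Coh.toAb (CohB1.tensorPow L p)) 1)) :
    Subsingleton (Sheaf.H (Coh.toAb L) 1) := by
  obtain ⟨U, e, hcov, he, hpw⟩ := FrobSplit12.exists_cover hL p (L := L)
  let T := CohB1.tensorMod (CohB1.tensorPow L p) (Omega.sheaf f)
  let hadd := FrobSplit12.powHom_add p (natCast_eq_zero k p f)
  let D : Data L (CohB1.tensorPow L p) :=
    { ι := X, U := U, cov := hcov, p := e, gen := he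
      g := fun i W hi => AddMonoidHom.mk' (fun a => a ^ p • mres _ hi (Amp.pw (e i) p)) fun a b => by
        rw [hadd, add_smul]
      g_res := fun i W W' hi h a => by
        show ores h a ^ p • _ = mres (CohB1.tensorPow L p) h (a ^ p • _)
        rw [mres_smul, mres_mres, map_pow]
      compat := fun i j W hi hj a b hab => by
        show a ^ p • mres _ hi (Amp.pw (e i) p) = b ^ p • mres _ hj (Amp.pw (e j) p)
        rw [show mres _ hi (Amp.pw (e i) p) = Amp.pw (mres L hi (e i)) p from Amp.res_pw hi _ p,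
          show mres _ hj (Amp.pw (e j) p) = Amp.pw (mres L hj (e j)) p from Amp.res_pw hj _ p,
          ← Amp.pw_smul, ← Amp.pw_smul, hab] }
  let E : Data (CohB1.tensorPow L p) T :=
    { ι := X, U := U, cov := hcov, p := fun i => Amp.pw (e i) p, gen := hpw
      g := fun i W hi => AddMonoidHom.mk'
        (fun a => tsec _ _ (mres _ hi (Amp.pw (e i) p)) ((OmegaSh.dOmega f).app W a)) fun a b => by
        rw [map_add, M2.tsec_add_right]
      g_res := fun i W W' hi h a => by
        show tsec _ _ _ _ = res _ h (tsec _ _ _ _)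
        rw [M2.res_tsec]
        congr 1
        · exact (mres_mres _ hi h _).symm
        · exact (OmegaSh.dOmega f).d_map (homOfLE h).op a
      compat := fun i j W hi hj a b hab => by
        show tsec _ _ (mres _ hi (Amp.pw (e i) p)) ((OmegaSh.dOmega f).app W a) =
          tsec _ _ (mres _ hj (Amp.pw (e j) p)) ((OmegaSh.dOmega f).app W b)
        obtain ⟨t, ht⟩ := (he i W hi).2 (mres L hj (e j))
        have hj' : mres _ hj (Amp.pw (e j) p) = t ^ p • mres _ hi (Amp.pw (e i) p) := by
          rw [show mres _ hj (Amp.pw (e j) p) = Amp.pw (mres L hj (e j)) p from Amp.res_pw hj _ p,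
            ← show t • mres L hi (e i) = mres L hj (e j) from ht, Amp.pw_smul]
          exact congrArg (t ^ p • ·) (Amp.res_pw hi _ p).symm
        have hat : a = t ^ p * b := (hpw i W hi).1 (by
          show a • mres _ hi (Amp.pw (e i) p) = (t ^ p * b) • mres _ hi (Amp.pw (e i) p)
          rw [hab, hj', ← mul_smul, mul_comm])
        rw [hj', M2.tsec_smul_left, ← M2.tsec_smul_right, hat]
        congr 1
        refine ((OmegaSh.dOmega f).d_mul (X := op W) (t ^ p) b).trans ?_
        show t ^ p • (OmegaSh.dOmega f).app W b + b • (OmegaSh.dOmega f).app W (t ^ p) = _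
        rw [d_pow k p f, smul_zero, add_zero] }
  have hcomp : D.hom ≫ E.hom = 0 := by
    apply CategoryTheory.Sheaf.hom_ext
    refine NatTrans.ext (funext fun V => ?_)
    ext σ
    show E.fn V.unop (D.fn V.unop σ) = 0
    refine modules_eq_of_locally_eq T V.unop (fun i => V.unop ⊓ D.U i) (fun i => inf_le_left)
      (D.cov' V.unop) _ _ fun i => ?_
    obtain ⟨c, hc⟩ := D.exists_coeff i inf_le_right (mres L (inf_le_left : V.unop ⊓ D.U i ≤ V.unop) σ)
    have h1 : mres _ _ (D.fn V.unop σ) = c ^ p • _ := D.corr_fn V.unop σ i _ inf_le_left inf_le_right c hc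
    rw [E.corr_fn V.unop (D.fn V.unop σ) i _ inf_le_left inf_le_right (c ^ p) h1, map_zero]
    show tsec _ _ _ ((OmegaSh.dOmega f).app _ (c ^ p)) = 0
    rw [d_pow k p f, ← zero_smul Γ(X, V.unop ⊓ D.U i) (0 : Γ(Omega.sheaf f, V.unop ⊓ D.U i)), M2.tsec_smul_right, zero_smul]
  haveI : Mono D.hom := by
    haveI : ∀ V, Mono (D.hom.hom.app V) := fun V => by
      rw [AddCommGrpCat.mono_iff_injective]
      refine (injective_iff_map_eq_zero _).2 fun σ hσ => ?_
      refine modules_eq_of_locally_eq L V.unop (fun i => V.unop ⊓ D.U i) (fun i => inf_le_left)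
        (D.cov' V.unop) _ _ fun i => ?_
      obtain ⟨c, hc⟩ := D.exists_coeff i inf_le_right (mres L (inf_le_left : V.unop ⊓ D.U i ≤ V.unop) σ)
      have h1 : mres _ _ (D.fn V.unop σ) = c ^ p • _ := D.corr_fn V.unop σ i _ inf_le_left inf_le_right c hc
      rw [show D.fn V.unop σ = 0 from hσ, map_zero] at h1
      have hc0 : c ^ p = 0 := (hpw i _ inf_le_right).1 (h1.symm.trans (zero_smul _ _).symm)
      rw [map_zero, hc, eq_zero_of_pow_eq_zero hc0, zero_smul]
    exact (sheafToPresheaf _ _).mono_of_mono_map (NatTrans.mono_of_mono_app D.hom.hom)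
  let S := ShortComplex.mk D.hom (cokernel.π D.hom) (cokernel.condition D.hom)
  have hS : S.ShortExact :=
    { exact := ShortComplex.exact_of_g_is_cokernel S (cokernelIsCokernel D.hom)
      mono_f := ‹Mono D.hom›
      epi_g := inferInstanceAs (Epi (cokernel.π D.hom)) }
  let ψ : cokernel D.hom ⟶ Coh.toAb T := cokernel.desc D.hom E.hom hcomp
  haveI : Mono ψ := by
    haveI : ∀ V, Mono (ψ.hom.app V) := fun V => by
      rw [AddCommGrpCat.mono_iff_injective]
      refine (injective_iff_map_eq_zero _).2 fun q hq => ?_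
      have hsurj := (Sheaf.isLocallySurjective_iff_epi' _ (cokernel.π D.hom)).2 inferInstance
      have hloc : ∀ x : V.unop, ∃ (W : X.Opens) (hW : W ≤ V.unop), x.1 ∈ W ∧
          (cokernel D.hom).obj.map (homOfLE hW).op q = 0 := by
        intro x
        obtain ⟨W, i₀, ⟨σ, hσ⟩, hx⟩ := hsurj.imageSieve_mem q x.1 x.2
        have hxi : x.1 ∈ ⨆ i, W ⊓ U i := by rw [← inf_iSup_eq, hcov, inf_top_eq]; exact hx
        obtain ⟨i, hxi⟩ := Opens.mem_iSup.1 hxi
        obtain ⟨W', hW', hxW', hW'le⟩ := exists_isAffineOpen_mem_and_subset (x := x.1) (U := W ⊓ U i) hxi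
        have hle1 : W' ≤ W := fun y hy => (hW'le hy).1
        have hle2 : W' ≤ U i := fun y hy => (hW'le hy).2
        have hle : W' ≤ V.unop := hle1.trans (leOfHom i₀)
        let σ' : Γ(CohB1.tensorPow L p, W') := mres _ hle1 σ
        have hq' : (cokernel.π D.hom).hom.app (op W') σ' = (cokernel D.hom).obj.map (homOfLE hle).op q := by
          refine (congr($((cokernel.π D.hom).hom.naturality (homOfLE hle1).op) σ)).trans ?_
          refine (congrArg ((cokernel D.hom).obj.map (homOfLE hle1).op) hσ).trans ?_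
          rw [← ConcreteCategory.comp_apply, ← Functor.map_comp]
          rfl
        have hEσ : E.fn W' σ' = 0 := by
          have e1 : E.hom.hom.app (op W') σ' = ψ.hom.app (op W') ((cokernel.π D.hom).hom.app (op W') σ') := by
            rw [← cokernel.π_desc D.hom E.hom hcomp]
            rfl
          refine e1.trans ?_
          rw [hq']
          refine (congr($(ψ.hom.naturality (homOfLE hle).op) q)).trans ?_
          exact (congrArg ((Coh.toAb T).obj.map (homOfLE hle).op) hq).trans (map_zero _)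
        obtain ⟨c, hc⟩ := E.exists_coeff i hle2 σ'
        have h2 := E.corr_fn W' σ' i W' le_rfl hle2 c (by rw [mres_id]; exact hc)
        rw [hEσ, map_zero] at h2
        have hdc := tsec_eq_zero (Amp.isGenerator_res hle2 (hpw i)) _ h2.symm
        obtain ⟨b, rfl⟩ := exists_pow k p f hXn hW' c hdc
        refine ⟨W', hle, hxW', ?_⟩
        rw [← hq']
        have hb : σ' = D.hom.hom.app (op W') (b • mres L hle2 (e i)) := by
          have h3 := D.corr_fn W' (b • mres L hle2 (e i)) i W' le_rfl hle2 b (mres_id _ _ _)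
          rw [mres_id] at h3
          exact hc.trans h3.symm
        rw [hb, ← ConcreteCategory.comp_apply]
        exact congr($(congrArg (fun φ : Coh.toAb L ⟶ cokernel D.hom => φ.hom.app (op W'))
          (cokernel.condition D.hom)) (b • mres L hle2 (e i)))
      choose W hW hxW hW0 using hloc
      refine TopCat.Sheaf.eq_of_locally_eq' (cokernel D.hom) W V.unop (fun x => homOfLE (hW x))
        (fun y hy => Opens.mem_iSup.2 ⟨⟨y, hy⟩, hxW ⟨y, hy⟩⟩) q 0 fun x => ?_
      exact (hW0 x).trans (map_zero _).symm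
    exact (sheafToPresheaf _ _).mono_of_mono_map (NatTrans.mono_of_mono_app ψ.hom)
  have h0' : Subsingleton (Sheaf.H (cokernel D.hom) 0) := by
    refine ⟨fun a b => Ext.addEquiv₀.injective ?_⟩
    rw [← cancel_mono ψ, ← Sheaf.H.addEquiv₀_map, ← Sheaf.H.addEquiv₀_map]
    exact congrArg _ (Subsingleton.elim _ _)
  refine ⟨fun a b => ?_⟩
  suffices h : ∀ x : Sheaf.H (Coh.toAb L) 1, x = 0 by rw [h a, h b]
  intro x
  obtain ⟨y, hy⟩ := Abelian.Ext.covariant_sequence_exact₁ _ hS x (Subsingleton.elim (α := Sheaf.H (Coh.toAb (CohB1.tensorPow L p)) 1) _ _) (rfl : 0 + 1 = 1)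
  rw [← hy, show y = 0 from Subsingleton.elim (α := Sheaf.H (cokernel D.hom) 0) _ _, Abelian.Ext.zero_comp]

end Groth.Agent.KodV16
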