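import Groth.Agent.Lib.KodV16.Main
import Groth.Agent.Lib.AmpleFin18.ProjFree
import Groth.Agent.Lib.PushUnit3.Basic
import Groth.Agent.Lib.Dev4.DescendHom
import Groth.Prelude.Def_Frob

/-!
# `H¹(E) → H¹(F_*F^*E)` in any rank
-/

set_option autoImplicit false
set_option linter.style.haveILetI false
set_option backward.isDefEq.respectTransparency false
set_option backward.isDefEq.respectTransparency.types false
set_option maxHeartbeats 800000

universe u

open CategoryTheory CategoryTheory.Limits AlgebraicGeometry TopologicalSpace Opposite CategoryTheory.Abelian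

noncomputable section

namespace Groth.Agent.KodV16

open Groth.Agent Groth.Agent.M1
open Groth.Agent.P1Split (IsBas)
open Groth.Agent.M2 (tsec pullSec)

variable (k : Type u) [Field k] [IsAlgClosed k] (p : ℕ) [Fact p.Prime] [CharP k p]
  {X : Scheme.{u}} (f : X ⟶ Spec (CommRingCat.of k)) [IsIntegral X] [QuasiSeparated f]
  [FrobSch.IsCharP X p] (E : X.Modules)

/-- The Frobenius pullback. -/
abbrev FE : X.Modules := (Scheme.Modules.pullback (FrobSch.frob X p)).obj E

/-- Its twist by differentials. -/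
abbrev TE : X.Modules := CohB1.tensorMod (FE p E) (Omega.sheaf f)

/-- The unit on sections; the preimage of an open is itself. -/
def eta {W : X.Opens} (e : Γ(E, W)) : Γ(FE p E, W) := pullSec (FrobSch.frob X p) E e

omit [IsIntegral X] in
theorem eta_mres {W W' : X.Opens} (h : W' ≤ W) (e : Γ(E, W)) :
    eta p E (mres E h e) = mres (FE p E) h (eta p E e) :=
  Dev4.pullSec_res (FrobSch.frob X p) E h e

omit [IsIntegral X] in
theorem eta_sum {W : X.Opens} {n : ℕ} (c : Fin n → Γ(X, W)) (m : Fin n → Γ(E, W)) :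
    eta p E (∑ i, c i • m i) = ∑ i, c i ^ p • eta p E (m i) :=
  Dev4.app_pullSec (FrobSch.frob X p) E c m

omit [IsIntegral X] in
theorem isBas_eta {W : X.Opens} {r : ℕ} {e : Fin r → Γ(E, W)} (he : IsBas E W e) :
    IsBas (FE p E) W fun i => eta p E (e i) :=
  AmpleFin18.isBas_pullback (FrobSch.frob X p) he

variable {E}

/-- `∑ cᵢ F^*eᵢ ↦ ∑ F^*eᵢ ⊗ dcᵢ`. -/
def nab {W : X.Opens} {r : ℕ} (e : Fin r → Γ(E, W)) (c : Fin r → Γ(X, W)) : Γ(TE k p f E, W) :=
  ∑ i, tsec _ _ (eta p E (e i)) ((OmegaSh.dOmega f).app W (c i))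

theorem nab_mres {W W' : X.Opens} (h : W' ≤ W) {r : ℕ} (e : Fin r → Γ(E, W)) (c : Fin r → Γ(X, W)) :
    mres (TE k p f E) h (nab k p f e c) = nab k p f (fun i => mres E h (e i)) fun i => ores h (c i) := by
  rw [nab, nab, map_sum]
  refine Finset.sum_congr rfl fun i _ => ?_
  refine (M2.res_tsec h _ _).trans ?_
  rw [eta_mres]
  congr 1
  exact ((OmegaSh.dOmega f).d_map (homOfLE h).op (c i)).symm

theorem d_pow_mul {W : X.Opens} (a c : Γ(X, W)) :
    (OmegaSh.dOmega f).app W (a ^ p * c) = a ^ p • (OmegaSh.dOmega f).app W c := by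
  refine ((OmegaSh.dOmega f).d_mul (X := op W) (a ^ p) c).trans ?_
  show a ^ p • (OmegaSh.dOmega f).app W c + c • (OmegaSh.dOmega f).app W (a ^ p) = _
  rw [d_pow k p f, smul_zero, add_zero]

/-- Independence of the frame. -/
theorem nab_eq {W : X.Opens} {r r' : ℕ} {e : Fin r → Γ(E, W)} (he : IsBas E W e) (e' : Fin r' → Γ(E, W))
    (c : Fin r → Γ(X, W)) (c' : Fin r' → Γ(X, W))
    (h : ∑ i, c i • eta p E (e i) = ∑ j, c' j • eta p E (e' j)) : nab k p f e c = nab k p f e' c' := by
  choose a ha using fun j => (he W le_rfl).2 (e' j)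
  have ha' : ∀ j, e' j = ∑ i, a j i • e i := fun j => by
    refine (ha j).symm.trans ?_
    simp only [mres_id]
  have hc : c = fun i => ∑ j, a j i ^ p * c' j := by
    refine (isBas_eta p E he W le_rfl).1 ?_
    simp only [mres_id]
    rw [h]
    simp only [ha', eta_sum, Finset.smul_sum, Finset.sum_smul, ← mul_smul, mul_comm (c' _)]
    exact Finset.sum_comm
  simp only [nab, hc, ha', eta_sum, map_sum, d_pow_mul]
  have tr : ∀ (s : Γ(FE p E, W)) (t : Fin r' → Γ(Omega.sheaf f, W)),
      tsec _ _ s (∑ j, t j) = ∑ j, tsec _ _ s (t j) := fun s t =>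
    map_sum (AddMonoidHom.mk' (fun z => tsec (FE p E) (Omega.sheaf f) s z) fun a b => M2.tsec_add_right s a b) t _
  have tl : ∀ (s : Fin r → Γ(FE p E, W)) (t : Γ(Omega.sheaf f, W)),
      tsec _ _ (∑ i, s i) t = ∑ i, tsec _ _ (s i) t := fun s t =>
    map_sum (AddMonoidHom.mk' (fun z => tsec (FE p E) (Omega.sheaf f) z t) fun a b => M2.tsec_add_left a b t) s _
  simp only [tr, tl]
  rw [Finset.sum_comm]
  refine Finset.sum_congr rfl fun j _ => Finset.sum_congr rfl fun i _ => ?_
  rw [M2.tsec_smul_left, M2.tsec_smul_right]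

theorem nab_congr {W : X.Opens} {r : ℕ} (e : Fin r → Γ(E, W)) (b c : Fin r → Γ(X, W)) :
    nab k p f e (fun i => c i + b i ^ p) = nab k p f e c := by
  simp only [nab, map_add, d_pow k p f, add_zero]

/-- The unit, on abelian sheaves. -/
abbrev unitAb : Coh.toAb E ⟶ Coh.toAb ((Scheme.Modules.pushforward (FrobSch.frob X p)).obj (FE p E)) :=
  (SheafOfModules.toSheaf X.ringCatSheaf).map
    ((Scheme.Modules.pullbackPushforwardAdjunction (FrobSch.frob X p)).unit.app E)

theorem injective_H1_unit (hXn : Pi1.IsNormalScheme X) (hE : FlatMod.IsFinLocFree E)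
    (h0 : Subsingleton (Sheaf.H (Coh.toAb (TE k p f E)) 0)) :
    Function.Injective (Sheaf.H.map (unitAb p (E := E)) 1) := by
  let η := unitAb p (E := E)
  have hinj : ∀ W : X.Opens, Function.Injective ((FrobSch.frob X p).app W) := fun W => by
    by_cases hne : Nonempty W
    · haveI : IsDomain Γ(X, W) := IsIntegral.component_integral W
      haveI : CharP Γ(X, W) p :=
        (CharP.charP_iff_prime_eq_zero Fact.out).2 (FrobSch.natCast_eq_zero_app X p W)
      haveI : ExpChar Γ(X, W) p := ExpChar.prime Fact.out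
      intro a b hab
      exact frobenius_inj Γ(X, W) p hab
    · haveI : Subsingleton Γ(X, W) := by
        have : W = ⊥ := by
          rw [eq_bot_iff]; intro x hx; exact (hne ⟨⟨x, hx⟩⟩).elim
        rw [this]
        exact CommRingCat.subsingleton_of_isTerminal X.sheaf.isTerminalOfEmpty
      exact fun a b _ => Subsingleton.elim a b
  haveI : Mono η := by
    haveI : ∀ V, Mono (η.hom.app V) := fun V => by
      rw [AddCommGrpCat.mono_iff_injective]
      exact Dev4.pullSec_injective_of_app (FrobSch.frob X p) hinj hE V.unop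
    exact (sheafToPresheaf _ _).mono_of_mono_map (NatTrans.mono_of_mono_app η.hom)
  let S := ShortComplex.mk η (cokernel.π η) (cokernel.condition η)
  have hS : S.ShortExact :=
    { exact := ShortComplex.exact_of_g_is_cokernel S (cokernelIsCokernel η)
      mono_f := ‹Mono η›
      epi_g := inferInstanceAs (Epi (cokernel.π η)) }
  have hkill : ∀ q : (cokernel η).obj.obj (op ⊤), q = 0 := by
    intro q
    have hsurj := (Sheaf.isLocallySurjective_iff_epi' _ (cokernel.π η)).2 inferInstance
    have hloc : ∀ x : X, ∃ (W : X.Opens) (r : ℕ) (e : Fin r → Γ(E, W)) (c : Fin r → Γ(X, W)),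
        x ∈ W ∧ IsAffineOpen W ∧ IsBas E W e ∧
        (cokernel.π η).hom.app (op W) ((∑ i, c i • eta p E (e i) : Γ(FE p E, W))) =
          (cokernel η).obj.map (homOfLE (le_top : W ≤ ⊤)).op q := by
      intro x
      obtain ⟨W₀, i₀, ⟨σ, hσ⟩, hx⟩ := hsurj.imageSieve_mem q x trivial
      obtain ⟨r, D, e, hxD, he⟩ := PushUnit3.exists_isBas_nhd' hE x
      obtain ⟨W, hWa, hxW, hWle⟩ := exists_isAffineOpen_mem_and_subset (x := x) (U := W₀ ⊓ D) ⟨hx, hxD⟩
      have hle0 : W ≤ W₀ := fun y hy => (hWle hy).1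
      have hleD : W ≤ D := fun y hy => (hWle hy).2
      let σ' : Γ(FE p E, W) := mres (FE p E) hle0 σ
      obtain ⟨c, hc⟩ := (isBas_eta p E (he.mres hleD) W le_rfl).2 σ'
      simp only [mres_id] at hc
      refine ⟨W, r, _, c, hxW, hWa, he.mres hleD, ?_⟩
      rw [hc]
      refine (congr($((cokernel.π η).hom.naturality (homOfLE hle0).op) σ)).trans ?_
      refine (congrArg ((cokernel η).obj.map (homOfLE hle0).op) hσ).trans ?_
      rw [← ConcreteCategory.comp_apply, ← Functor.map_comp]
      rfl
    choose W r e c hxW hWa he hq using hloc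
    have hW : (⊤ : X.Opens) ≤ ⨆ x, W x := fun x _ => Opens.mem_iSup.2 ⟨x, hxW x⟩
    obtain ⟨τ, hτ, -⟩ := TopCat.Sheaf.existsUnique_gluing' ⟨_, (TE k p f E).isSheaf⟩ W ⊤
      (fun x => homOfLE le_top) hW (fun x => nab k p f (e x) (c x)) fun x y => by
        show mres _ (inf_le_left : W x ⊓ W y ≤ W x) _ = mres _ (inf_le_right : W x ⊓ W y ≤ W y) _
        rw [nab_mres, nab_mres]
        let sx : Γ(FE p E, W x ⊓ W y) := mres (FE p E) inf_le_left (∑ i, c x i • eta p E (e x i))
        let sy : Γ(FE p E, W x ⊓ W y) := mres (FE p E) inf_le_right (∑ i, c y i • eta p E (e y i))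
        let N : Coh.toAb E ⟶ cokernel η := η ≫ cokernel.π η
        have hd : (cokernel.π η).hom.app (op (W x ⊓ W y)) (sx - sy) = 0 := by
          rw [map_sub, sub_eq_zero]
          refine (congr($((cokernel.π η).hom.naturality (homOfLE (inf_le_left : W x ⊓ W y ≤ W x)).op) _)).trans ?_
          refine Eq.trans ?_
            (congr($((cokernel.π η).hom.naturality (homOfLE (inf_le_right : W x ⊓ W y ≤ W y)).op) _)).symm
          refine ((congrArg ((cokernel η).obj.map (homOfLE (inf_le_left : W x ⊓ W y ≤ W x)).op) (hq x)).trans ?_).trans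
            (congrArg ((cokernel η).obj.map (homOfLE (inf_le_right : W x ⊓ W y ≤ W y)).op) (hq y)).symm
          rw [← ConcreteCategory.comp_apply, ← ConcreteCategory.comp_apply, ← Functor.map_comp, ← Functor.map_comp]
          rfl
        have hex := hS.exact.map_of_mono_of_preservesKernel
          (sheafToPresheaf (Opens.grothendieckTopology X) AddCommGrpCat.{u} ⋙
            (evaluation _ _).obj (op (W x ⊓ W y))) inferInstance inferInstance
        obtain ⟨b, hb⟩ := (ShortComplex.ab_exact_iff _).1 hex (sx - sy) hd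
        obtain ⟨β, hβ⟩ := ((he y).mres (inf_le_right : W x ⊓ W y ≤ W y) _ le_rfl).2 b
        simp only [mres_id] at hβ
        rw [← nab_congr k p f (fun i => mres E (inf_le_right : W x ⊓ W y ≤ W y) (e y i)) β
          (fun i => ores inf_le_right (c y i))]
        refine nab_eq k p f ((he x).mres inf_le_left) _ _ _ ?_
        have hb' : eta p E b = sx - sy := hb
        rw [← hβ, eta_sum] at hb'
        simp only [add_smul, Finset.sum_add_distrib]
        rw [hb']
        simp only [sx, sy, P1Split.mres_sum_smul, eta_mres]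
        abel
    have hτ0 : τ = 0 :=
      (Sheaf.H.equiv₀ (Coh.toAb (TE k p f E)) Limits.isTerminalTop).symm.injective (Subsingleton.elim _ _)
    refine TopCat.Sheaf.eq_of_locally_eq' (cokernel η) W ⊤ (fun x => homOfLE le_top) hW q 0 fun x => ?_
    refine Eq.trans ?_ (map_zero _).symm
    have hn : nab k p f (e x) (c x) = 0 := by rw [← hτ x, hτ0]; exact map_zero _
    have hdc : ∀ i, (OmegaSh.dOmega f).app (W x) (c x i) = 0 := by
      have hb := (AmpleFin18.bijective_sum_tsec (G := Omega.sheaf f) (isBas_eta p E (he x)) (le_refl (W x))).1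
      refine congrFun (hb (a₁ := fun i => (OmegaSh.dOmega f).app (W x) (c x i)) (a₂ := 0) ?_)
      simp only [mres_id]
      refine hn.trans (Finset.sum_eq_zero fun i _ => ?_).symm
      rw [Pi.zero_apply, ← zero_smul Γ(X, W x) (0 : Γ(Omega.sheaf f, W x)), M2.tsec_smul_right, zero_smul]
    choose b hb using fun i => exists_pow k p f hXn (hWa x) (c x i) (hdc i)
    rw [← hq x]
    have hrepr : (∑ i, c x i • eta p E (e x i) : Γ(FE p E, W x)) = η.hom.app (op (W x)) (∑ i, b i • e x i) := by
      refine Eq.trans ?_ (eta_sum p E b (e x)).symm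
      simp only [hb]
    rw [hrepr, ← ConcreteCategory.comp_apply]
    exact congr($(congrArg (fun φ : Coh.toAb E ⟶ cokernel η => φ.hom.app (op (W x))) (cokernel.condition η))
      (∑ i, b i • e x i))
  refine (injective_iff_map_eq_zero _).2 fun x hx => ?_
  obtain ⟨y, hy⟩ := Abelian.Ext.covariant_sequence_exact₁ _ hS x hx (rfl : 0 + 1 = 1)
  have hy0 : y = 0 :=
    (Sheaf.H.equiv₀ (cokernel η) Limits.isTerminalTop).injective ((hkill _).trans (map_zero _).symm)
  rw [← hy, hy0, Abelian.Ext.zero_comp]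

end Groth.Agent.KodV16
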